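import Cfsg.Agent.H258.QF.OddSeven
import Cfsg.Agent.H258.QF.Class
import Cfsg.Agent.H287.F4.Split
import Cfsg.Agent.H590.F4.CFive

/-!
# S2491, row F4 = `²E₆(2)` : C7 from its pieces (helper235)

`c_seven_of` : the stub `c_seven` from K1, K2, E7 (fixed points of elements of order divisible by `7` in `V₂`).
-/

set_option autoImplicit false
set_option linter.unusedSectionVars false

namespace Cfsg.Agent.H235.F4

open CoxeterSystem Cfsg.Agent.ChevalleyStructure.CoxeterGeom Cfsg.Agent.Tits.Roots Cfsg.Agent.Tits.Core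
  Cfsg.Agent.Nodes Cfsg.Agent.Nodes.Reps Cfsg.Agent.Nodes.BNOf Cfsg.Agent.Nodes.RGDLib Cfsg.Agent.Nodes.Bruhat
  Cfsg.Agent.Nodes.OppDec Cfsg.Agent.Nodes.LeviDec Cfsg.Agent.Nodes.StabComb
open Cfsg.Lie Subgroup
open Cfsg.Agent.H231.QF

universe u

variable {F : Type u} [Field F]

theorem re_conj {t : KK F} (h : RE t) (x : KK F) : RE (x * t * x⁻¹) := by
  obtain ⟨h1, h2, h3⟩ := h
  refine ⟨?_, ?_, ?_⟩
  · intro h4
    apply h1
    calc t = x⁻¹ * (x * t * x⁻¹) * x := by group
      _ = 1 := by rw [h4]; group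
  · calc x * t * x⁻¹ * (x * t * x⁻¹) = x * (t * t) * x⁻¹ := by group
      _ = 1 := by rw [h2]; group
  · have h4 : Nat.card (centralizer ({x * t * x⁻¹} : Set (KK F))) = Nat.card (centralizer ({t} : Set (KK F))) := by
      have h5 : centralizer ({x * t * x⁻¹} : Set (KK F)) = (centralizer ({t} : Set (KK F))).map (MulAut.conj x).toMonoidHom := by
        ext y
        rw [mem_centralizer_singleton_iff]
        constructor
        · intro h
          refine ⟨x⁻¹ * y * x, ?_, ?_⟩
          · show x⁻¹ * y * x ∈ centralizer ({t} : Set (KK F))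
            rw [mem_centralizer_singleton_iff]
            calc x⁻¹ * y * x * t = x⁻¹ * (y * (x * t * x⁻¹)) * x := by group
              _ = t * (x⁻¹ * y * x) := by rw [h]; group
          · show x * (x⁻¹ * y * x) * x⁻¹ = y
            group
        · rintro ⟨z, hz, rfl⟩
          have hz' : z ∈ centralizer ({t} : Set (KK F)) := hz
          rw [mem_centralizer_singleton_iff] at hz'
          show x * z * x⁻¹ * (x * t * x⁻¹) = x * t * x⁻¹ * (x * z * x⁻¹)
          calc x * z * x⁻¹ * (x * t * x⁻¹) = x * (z * t) * x⁻¹ := by group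
            _ = _ := by rw [hz']; group
      rw [h5]
      exact (Nat.card_congr ((centralizer ({t} : Set (KK F))).equivMapOfInjective _
        (MulAut.conj x).injective).toEquiv).symm
    rw [h4]
    exact h3

/-- `CR` is invariant under conjugation -/
theorem cr_of_conj {g x : KK F} (h : CR (x * g * x⁻¹)) : CR g := by
  obtain ⟨t, ht, hc⟩ := h
  refine ⟨x⁻¹ * t * (x⁻¹)⁻¹, re_conj ht x⁻¹, ?_⟩
  calc g * (x⁻¹ * t * (x⁻¹)⁻¹) = x⁻¹ * (x * g * x⁻¹ * t) * x := by group
    _ = _ := by rw [hc]; group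

section

variable [Fintype F] {φ : F →+* F}
  (hre : ∀ t : KK F, RE t ↔ t ≠ 1 ∧ ∃ x : KK F, x * t * x⁻¹ ∈ X φ th)
  (hcen : ∀ {t : KK F}, t ∈ X φ th → t ≠ 1 → centralizer ({t} : Set (KK F)) = P φ j1)

include hre hcen in
theorem cr_of_in (hF : Fintype.card F = 4) {g : KK F} (h : In φ j1 g) : CR g := by
  obtain ⟨x, hx⟩ := h
  obtain ⟨t, ht⟩ := Cfsg.Agent.H258.QF.exists_re (F := F) hF
  obtain ⟨h1, y, hy⟩ := (hre t).1 ht
  refine cr_of_conj (x := x) ⟨y * t * y⁻¹, re_conj ht y, ?_⟩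
  have h2 : y * t * y⁻¹ ≠ 1 := (re_conj ht y).1
  rw [← hcen hy h2, mem_centralizer_singleton_iff] at hx
  exact hx

/-- E7 : an element of `P₂` of order divisible by `7` commuting with a nontrivial element of `V₂` commutes with a root
element -/
def ESeven (φ : F →+* F) : Prop := ∀ g z : KK F, g ∈ P φ j2 → z ∈ V φ j2 → z ≠ 1 → g * z = z * g → 7 ∣ orderOf g → CR g

include hre hcen in
/-- **C7** -/
theorem c_seven_of (hF : Fintype.card F = 4) (hφ : ∀ t, φ t = t ^ 2) (hE : ESeven φ) (g : KK F)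
    (h7 : 7 ∣ orderOf g) : CR g ∨ H231.QF.Out φ j4 g ∨ Sm g := by
  have : Finite (KK F) := inferInstance
  rcases Nat.even_or_odd (Nat.card (centralizer ({g} : Set (KK F)))) with he | he
  swap
  · exact Or.inr (Or.inr (Cfsg.Agent.H258.QF.sm_of_odd_seven hF g h7 he))
  by_cases h5 : 5 ∣ orderOf g
  · rcases Cfsg.Agent.H590.F4.CFive.c_five hF hφ g h5 with h | h
    · exact Or.inl h
    · exact Or.inr (Or.inr h)
  have : Fact (Nat.Prime 2) := ⟨Nat.prime_two⟩
  obtain ⟨⟨z, hz⟩, hz2⟩ := exists_prime_orderOf_dvd_card' (G := centralizer ({g} : Set (KK F))) 2 he.two_dvd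
  rw [Subgroup.orderOf_mk] at hz2
  rw [mem_centralizer_singleton_iff] at hz
  have hz1 : z ≠ 1 := by
    rintro rfl
    rw [orderOf_one] at hz2
    norm_num at hz2
  have hzz : z * z = 1 := by
    have h1 := pow_orderOf_eq_one z
    rwa [hz2, pow_two] at h1
  rcases Cfsg.Agent.H287.F4.Par.par_split hF hφ g z hz1 hzz hz.symm with h | h | ⟨x, hg, hv, -⟩ | ⟨x, J, -, -, -, h⟩
  · exact Or.inl (cr_of_in hre hcen hF h)
  · rcases Cfsg.Agent.H258.QF.in_or_out h with h | h
    · exact Or.inl (cr_of_in hre hcen hF h)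
    · exact Or.inr (Or.inl h)
  · refine Or.inl (cr_of_conj (x := x) (hE _ _ hg hv ?_ ?_ ?_))
    · intro h1
      apply hz1
      calc z = x⁻¹ * (x * z * x⁻¹) * x := by group
        _ = 1 := by rw [h1]; group
    · calc x * g * x⁻¹ * (x * z * x⁻¹) = x * (g * z) * x⁻¹ := by group
        _ = x * z * x⁻¹ * (x * g * x⁻¹) := by rw [← hz]; group
    · rwa [show x * g * x⁻¹ = MulAut.conj x g from rfl, MulEquiv.orderOf_eq]
  · exfalso
    apply h5
    rwa [show x * g * x⁻¹ = MulAut.conj x g from rfl, MulEquiv.orderOf_eq] at h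

end

end Cfsg.Agent.H235.F4
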